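import Groth.Agent.FComplFlat.Sec
import Groth.Agent.SiteBase.FlatMor
import Mathlib.RingTheory.Flat.EquationalCriterion
import Mathlib.AlgebraicGeometry.Noetherian

/-!
# Relations in a completion lift
-/

universe u

open CategoryTheory CategoryTheory.Limits AlgebraicGeometry TopologicalSpace Opposite
open Groth.Agent.ModTensor Groth.Agent.ModPull

namespace Groth.Agent.FComplFlat

variable (X : Scheme.{u}) [IsLocallyNoetherian X] (𝓘 : X.IdealSheafData)
  (h : (FSch.completionAlong X 𝓘).IsFormal)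

/-- The map of the completion to the scheme. -/
noncomputable abbrev toX : ModSite.RMor ((FSch.completionAlong X 𝓘).Osh h) X.sheaf :=
  FSch.toSchemeMor (FSch.completionAlong X 𝓘) h (FSch.completionToX X 𝓘) (FSch.completionToX_comm X 𝓘)

/-- A relation with values in a flat algebra. -/
lemma exists_factor {R S : Type u} [CommRing R] [CommRing S] (f : R →+* S) (hf : f.Flat)
    {σ Y : Type} [Fintype σ] [Fintype Y] (c : σ → Y → R) (a : σ → S)
    (hrel : ∀ y, ∑ l, f (c l y) * a l = 0) :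
    ∃ (n : ℕ) (N : σ → Fin n → R) (b : Fin n → S),
      (∀ l, a l = ∑ j, f (N l j) * b j) ∧ ∀ j y, ∑ l, N l j * c l y = 0 := by
  classical
  let := f.toAlgebra
  have : Module.Flat R S := hf
  let g : (Y → R) →ₗ[R] (σ → R) := ∑ y, (LinearMap.proj y).smulRight (fun l => c l y)
  let x : (σ → R) →ₗ[R] S := ∑ l, (LinearMap.proj l).smulRight (a l)
  have hx : ∀ v : σ → R, x v = ∑ l, f (v l) * a l := fun v => by
    simp [x, Algebra.smul_def, RingHom.algebraMap_toAlgebra]
  have hg : ∀ y, g (Pi.single y 1) = fun l => c l y := fun y => by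
    funext l
    simp [g, Pi.single_apply, Finset.sum_apply, apply_ite (fun t : σ → R => t l)]
  have hxg : x ∘ₗ g = 0 := by
    refine LinearMap.pi_ext' fun y => LinearMap.ext_ring ?_
    show x (g (Pi.single y 1)) = _
    rw [hg, hx]
    exact hrel y
  obtain ⟨k, α, β, hαβ, hα⟩ := Module.Flat.exists_factorization_of_comp_eq_zero_of_free hxg
  refine ⟨k, fun l j => α (Pi.single l 1) j, fun j => β (Finsupp.single j 1), fun l => ?_, fun j y => ?_⟩
  · have e : a l = β (α (Pi.single l 1)) := by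
      rw [← LinearMap.comp_apply, ← hαβ, hx]
      simp [Pi.single_apply]
    rw [e]
    conv_lhs => rw [← Finsupp.univ_sum_single (α (Pi.single l 1))]
    rw [map_sum]
    refine Finset.sum_congr rfl fun j _ => ?_
    rw [← Finsupp.smul_single_one, map_smul, Algebra.smul_def, RingHom.algebraMap_toAlgebra]
  · have e : α (g (Pi.single y 1)) = 0 := LinearMap.congr_fun hα (Pi.single y 1)
    rw [hg, show (fun l => c l y) = ∑ l, c l y • (Pi.single l 1 : σ → R) from by
      funext l; simp [Finset.sum_apply, Pi.single_apply], map_sum] at e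
    have e' := DFunLike.congr_fun e j
    simp only [map_smul, Finsupp.finsetSum_apply, Finsupp.smul_apply, smul_eq_mul, Finsupp.coe_zero,
      Pi.zero_apply] at e'
    rw [← e']
    exact Finset.sum_congr rfl fun l _ => mul_comm _ _

theorem relLift : SiteBase.RelLift (toX X 𝓘 h) (ModSite.unit ((FSch.completionAlong X 𝓘).Osh h)) := by
  intro W V hWV σt Y _ _ c a hrel
  let O := (FSch.completionAlong X 𝓘).Osh h
  let a₀ : σt → O.obj.obj (op W) := a
  let p := FSch.completionToX X 𝓘 0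
  have : IsClosedImmersion p := inferInstanceAs (IsClosedImmersion (𝓘 ^ (0 + 1)).subschemeι)
  have hex : ∀ x ∈ W, ∃ U : X.affineOpens, x ∈ p ⁻¹ᵁ (U : X.Opens) ∧ p ⁻¹ᵁ (U : X.Opens) ≤ W ∧ (U : X.Opens) ≤ V := by
    intro x hx
    obtain ⟨T, hT, hTW⟩ := (p.isClosedEmbedding.isInducing.isOpen_iff).1 W.2
    have hxT : p.base x ∈ T := by
      have hx' : x ∈ p.base ⁻¹' T := by rw [hTW]; exact hx
      exact hx'
    obtain ⟨_, ⟨U₀, hU₀, rfl⟩, hxU, hU⟩ := X.isBasis_affineOpens.exists_subset_of_mem_open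
      (a := p.base x) (u := T ∩ (V : Set X)) ⟨hxT, hWV.le hx⟩ (hT.inter V.2)
    refine ⟨⟨U₀, hU₀⟩, hxU, fun z hz => ?_, fun z hz => (hU hz).2⟩
    have : z ∈ p.base ⁻¹' T := (hU hz).1
    rw [hTW] at this
    exact this
  refine ⟨⟨fun W' g => ∃ U : X.affineOpens, W' ≤ p ⁻¹ᵁ (U : X.Opens) ∧ p ⁻¹ᵁ (U : X.Opens) ≤ W ∧ (U : X.Opens) ≤ V,
    fun {W' W''} _ hg i => hg.imp fun U hU => ⟨i.le.trans hU.1, hU.2⟩⟩, fun x hx => ?_, fun W' g hg => ?_⟩
  · obtain ⟨U, hxU, hUW, hUV⟩ := hex x hx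
    exact ⟨p ⁻¹ᵁ (U : X.Opens), homOfLE hUW, ⟨U, le_rfl, hUW, hUV⟩, hxU⟩
  · obtain ⟨U, hW', hUW, hUV⟩ := hg
    have : IsNoetherianRing Γ(X, (U : X.Opens)) := IsLocallyNoetherian.component_noetherian U
    let d : (U : X.Opens) ⟶ V := homOfLE hUV
    let i : p ⁻¹ᵁ (U : X.Opens) ⟶ W := homOfLE hUW
    let j : W' ⟶ p ⁻¹ᵁ (U : X.Opens) := homOfLE hW'
    let s : X.sheaf.obj.obj (op V) →+* O.obj.obj (op (p ⁻¹ᵁ V)) :=
      ((toX X 𝓘 h).sharp.hom.app (op V)).hom
    let su : Γ(X, (U : X.Opens)) →+* O.obj.obj (op (p ⁻¹ᵁ (U : X.Opens))) := (σ X 𝓘 h U).hom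
    have hs : ∀ r, (O.obj.map i.op).hom ((O.obj.map hWV.op).hom (s r)) = su ((X.presheaf.map d.op).hom r) := fun r => by
      rw [← CommRingCat.comp_apply, ← Functor.map_comp]
      refine Eq.trans ?_ (ConcreteCategory.congr_hom ((toX X 𝓘 h).sharp.hom.naturality d.op) r).symm
      rfl
    have hrel' : ∀ y, ∑ l, su ((X.presheaf.map d.op).hom (c l y)) * (O.obj.map i.op).hom (a₀ l) = 0 := fun y => by
      have hy : ∑ l, (O.obj.map hWV.op).hom (s (c l y)) * a₀ l = 0 := hrel y
      have := congrArg (O.obj.map i.op).hom hy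
      rw [map_sum, map_zero] at this
      refine Eq.trans (Finset.sum_congr rfl fun l _ => ?_) this
      rw [map_mul, hs]
    obtain ⟨n, N, b, hb, hN⟩ := exists_factor su (flat_σ X 𝓘 h U) _ _ hrel'
    refine ⟨U, d, j, n, N, fun k => (O.obj.map j.op).hom (b k), Subsingleton.elim _ _, fun l => ?_, hN⟩
    show (O.obj.map g.op).hom (a₀ l) = ∑ k, (O.obj.map j.op).hom (su (N l k)) * (O.obj.map j.op).hom (b k)
    rw [show g = j ≫ i from Subsingleton.elim _ _, op_comp, Functor.map_comp, CommRingCat.comp_apply, hb l, map_sum]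
    simp only [map_mul]

end Groth.Agent.FComplFlat
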