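import Groth.Prelude.Def_FSch5
import Mathlib.RingTheory.AdicCompletion.AsTensorProduct

/-!
# Sections of a completion over the preimage of an affine open
-/

universe u

open CategoryTheory CategoryTheory.Limits AlgebraicGeometry TopologicalSpace Opposite

namespace Groth.Agent.FComplFlat

variable {X : Scheme.{u}}

/-- Sections of a closed subscheme over the preimage of an affine open. -/
lemma appLE_subscheme (J : X.IdealSheafData) (U : X.affineOpens) (W : J.subscheme.Opens)
    (hW : W = J.subschemeι ⁻¹ᵁ (U : X.Opens)) :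
    Function.Surjective (J.subschemeι.appLE U W hW.le).hom ∧
      RingHom.ker (J.subschemeι.appLE U W hW.le).hom = J.ideal U := by
  subst hW
  rw [← Scheme.Hom.app_eq_appLE]
  exact ⟨J.subschemeι_app_surjective U, J.ker_subschemeι_app U⟩

variable (X) (𝓘 : X.IdealSheafData) (h : (FSch.completionAlong X 𝓘).IsFormal) (U : X.affineOpens)

/-- The preimage of `U` in the common space. -/
noncomputable abbrev pre : ((FSch.completionAlong X 𝓘).X 0).Opens :=
  FSch.completionToX X 𝓘 0 ⁻¹ᵁ (U : X.Opens)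

/-- Sections of the completion. -/
noncomputable abbrev S : CommRingCat.{u} := ((FSch.completionAlong X 𝓘).Osh h).obj.obj (op (pre X 𝓘 U))

/-- Sections of a level. -/
noncomputable abbrev T (n : ℕ) : CommRingCat.{u} :=
  ((FSch.completionAlong X 𝓘).levelObj h n).obj.obj (op (pre X 𝓘 U))

/-- The canonical map to the completion. -/
noncomputable def σ : Γ(X, (U : X.Opens)) ⟶ S X 𝓘 h U :=
  (FSch.schSharp (FSch.completionAlong X 𝓘) h (FSch.completionToX X 𝓘) (FSch.completionToX_comm X 𝓘)).hom.app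
    (op (U : X.Opens))

/-- The canonical map to a level. -/
noncomputable def ρ (n : ℕ) : Γ(X, (U : X.Opens)) ⟶ T X 𝓘 h U n :=
  (FSch.schLevel (FSch.completionAlong X 𝓘) h (FSch.completionToX X 𝓘) (FSch.completionToX_comm X 𝓘) n).hom.app
    (op (U : X.Opens))

/-- The projection. -/
noncomputable def proj (n : ℕ) : S X 𝓘 h U ⟶ T X 𝓘 h U n :=
  ((FSch.completionAlong X 𝓘).OshProj h n).hom.app (op (pre X 𝓘 U))

/-- The transition map. -/
noncomputable def trans (n : ℕ) : T X 𝓘 h U (n + 1) ⟶ T X 𝓘 h U n :=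
  ((FSch.completionAlong X 𝓘).levelMap h n).hom.app (op (pre X 𝓘 U))

lemma σ_proj (n : ℕ) : σ X 𝓘 h U ≫ proj X 𝓘 h U n = ρ X 𝓘 h U n :=
  congrArg (fun t => t.hom.app (op (U : X.Opens)))
    (FSch.schSharp_proj (FSch.completionAlong X 𝓘) h (FSch.completionToX X 𝓘) (FSch.completionToX_comm X 𝓘) n)

lemma ρ_trans (n : ℕ) : ρ X 𝓘 h U (n + 1) ≫ trans X 𝓘 h U n = ρ X 𝓘 h U n :=
  congrArg (fun t => t.hom.app (op (U : X.Opens)))
    (FSch.schLevel_levelMap (FSch.completionAlong X 𝓘) h (FSch.completionToX X 𝓘) (FSch.completionToX_comm X 𝓘) n)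

lemma proj_trans (n : ℕ) : proj X 𝓘 h U (n + 1) ≫ trans X 𝓘 h U n = proj X 𝓘 h U n :=
  congrArg (fun t => t.hom.app (op (pre X 𝓘 U))) ((FSch.completionAlong X 𝓘).OshProj_levelMap h n)

lemma ρ_spec (n : ℕ) : Function.Surjective (ρ X 𝓘 h U n).hom ∧
    RingHom.ker (ρ X 𝓘 h U n).hom = (𝓘.ideal U) ^ (n + 1) := by
  refine (appLE_subscheme (𝓘 ^ (n + 1)) U _ ?_).imp id fun e => e.trans (by rw [Scheme.IdealSheafData.ideal_pow, Pi.pow_apply])
  exact (FSch.lvU_p (FSch.completionAlong X 𝓘) h (FSch.completionToX X 𝓘) (FSch.completionToX_comm X 𝓘) n U).symm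

/-- The sections as a limit of sets. -/
noncomputable def isLimitSec :
    IsLimit ((sheafToPresheaf _ CommRingCat.{u} ⋙ (evaluation _ CommRingCat.{u}).obj (op (pre X 𝓘 U)) ⋙
      forget CommRingCat.{u}).mapCone (limit.cone ((FSch.completionAlong X 𝓘).levelRing h))) :=
  isLimitOfPreserves _ (limit.isLimit _)

lemma ext_proj {s t : S X 𝓘 h U} (e : ∀ n, (proj X 𝓘 h U n).hom s = (proj X 𝓘 h U n).hom t) : s = t :=
  Concrete.isLimit_ext _ (isLimitSec X 𝓘 h U) s t fun j => e j.unop

/-- Compatible families come from sections. -/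
lemma exists_proj (y : ∀ n, T X 𝓘 h U n) (hy : ∀ n, (trans X 𝓘 h U n).hom (y (n + 1)) = y n) :
    ∃ s : S X 𝓘 h U, ∀ n, (proj X 𝓘 h U n).hom s = y n := by
  let F := (FSch.completionAlong X 𝓘).levelRing h ⋙ sheafToPresheaf _ CommRingCat.{u} ⋙
    (evaluation _ CommRingCat.{u}).obj (op (pre X 𝓘 U)) ⋙ forget CommRingCat.{u}
  let c : Cone F :=
    { pt := PUnit.{u + 1}
      π := NatTrans.ofOpSequence (fun n => ↾(fun _ => y n)) fun n => by
        ext
        show y n = _
        refine (hy n).symm.trans ?_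
        show _ = (((FSch.completionAlong X 𝓘).levelRing h).map (homOfLE (Nat.le_add_right n 1)).op).hom.app
          (op (pre X 𝓘 U)) (y (n + 1))
        rw [FSch.Sys.levelRing_map_succ]
        rfl }
  exact ⟨(isLimitSec X 𝓘 h U).lift c PUnit.unit, fun n => ConcreteCategory.congr_hom ((isLimitSec X 𝓘 h U).fac c (op n)) PUnit.unit⟩

/-- The sections over the preimage of an affine open are flat. -/
theorem flat_σ [IsNoetherianRing Γ(X, (U : X.Opens))] : (σ X 𝓘 h U).hom.Flat := by
  let R := Γ(X, (U : X.Opens))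
  let I := 𝓘.ideal U
  let := (σ X 𝓘 h U).hom.toAlgebra
  show Module.Flat R (S X 𝓘 h U)
  let ρb : ∀ n, (R ⧸ (I ^ (n + 1) • ⊤ : Submodule R R)) →+ T X 𝓘 h U n := fun n =>
    QuotientAddGroup.lift _ (ρ X 𝓘 h U n).hom.toAddMonoidHom fun r hr => by
      have : r ∈ RingHom.ker (ρ X 𝓘 h U n).hom := by
        rw [(ρ_spec X 𝓘 h U n).2]
        simpa using hr
      exact this
  have hρb : ∀ n (r : R), ρb n (Submodule.Quotient.mk r) = (ρ X 𝓘 h U n).hom r := fun n r => rfl
  have hsmul : ∀ n (r : R) z, ρb n (r • z) = (ρ X 𝓘 h U n).hom r * ρb n z := fun n r z => by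
    obtain ⟨z, rfl⟩ := Submodule.Quotient.mk_surjective _ z
    rw [← Submodule.Quotient.mk_smul, hρb, hρb, smul_eq_mul, map_mul]
  have hρinj : ∀ n z, ρb n z = 0 → z = 0 := fun n z hz => by
    obtain ⟨z, rfl⟩ := Submodule.Quotient.mk_surjective _ z
    rw [hρb] at hz
    have : z ∈ RingHom.ker (ρ X 𝓘 h U n).hom := hz
    rw [(ρ_spec X 𝓘 h U n).2] at this
    exact (Submodule.Quotient.mk_eq_zero _).2 (by simpa using this)
  have htrans : ∀ n z, (trans X 𝓘 h U n).hom (ρb (n + 1) z) =
      ρb n (AdicCompletion.transitionMap I R (Nat.le_succ (n + 1)) z) := fun n z => by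
    obtain ⟨z, rfl⟩ := Submodule.Quotient.mk_surjective _ z
    rw [hρb]
    exact (ConcreteCategory.congr_hom (ρ_trans X 𝓘 h U n) z).trans (hρb n z).symm
  choose L hL using fun ξ : AdicCompletion I R => exists_proj X 𝓘 h U (fun n => ρb n (ξ.val (n + 1))) fun n => by
    rw [htrans, ξ.property (Nat.le_succ (n + 1))]
  let Λ : AdicCompletion I R →ₗ[R] S X 𝓘 h U :=
    { toFun := L
      map_add' := fun a b => ext_proj X 𝓘 h U fun n => by
        rw [map_add, hL, hL, hL, AdicCompletion.val_add_apply, map_add]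
      map_smul' := fun r a => ext_proj X 𝓘 h U fun n => by
        rw [RingHom.id_apply, hL, AdicCompletion.val_smul_apply, hsmul, ← hL]
        show _ = (proj X 𝓘 h U n).hom ((σ X 𝓘 h U).hom r * L a)
        rw [map_mul]
        exact congrArg (· * _) (ConcreteCategory.congr_hom (σ_proj X 𝓘 h U n) r).symm }
  have hbij : Function.Bijective Λ := by
    refine ⟨(injective_iff_map_eq_zero Λ).2 fun ξ hξ => AdicCompletion.ext fun n => ?_, fun s => ?_⟩
    · cases n with
      | zero =>
        refine (Submodule.Quotient.subsingleton_iff.2 ?_).elim _ _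
        simp
      | succ n =>
        refine (hρinj n _ ?_).trans (AdicCompletion.val_zero_apply (I := I) (M := R) (n + 1)).symm
        rw [← hL, show L ξ = 0 from hξ, map_zero]
    · choose r hr using fun n => (ρ_spec X 𝓘 h U n).1 ((proj X 𝓘 h U n).hom s)
      have hs : ∀ n, r (n + 1) - r n ∈ I ^ (n + 1) := fun n => by
        rw [← (ρ_spec X 𝓘 h U n).2, RingHom.mem_ker, map_sub, hr, sub_eq_zero]
        refine (ConcreteCategory.congr_hom (ρ_trans X 𝓘 h U n) (r (n + 1))).symm.trans ?_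
        refine (congrArg (trans X 𝓘 h U n).hom (hr (n + 1))).trans ?_
        exact ConcreteCategory.congr_hom (proj_trans X 𝓘 h U n) s
      refine ⟨AdicCompletion.mk I R (AdicCompletion.AdicCauchySequence.mk I R r fun n => ?_), ext_proj X 𝓘 h U fun n => ?_⟩
      · rw [SModEq.sub_mem]
        have : r n - r (n + 1) ∈ I ^ n := by
          rw [← neg_sub]
          exact neg_mem (Ideal.pow_le_pow_right (Nat.le_succ n) (hs n))
        simpa using this
      · show (proj X 𝓘 h U n).hom (L _) = _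
        rw [hL]
        show ρb n (Submodule.Quotient.mk (r (n + 1))) = _
        rw [hρb, ← hr n, ← sub_eq_zero, ← map_sub, ← RingHom.mem_ker, (ρ_spec X 𝓘 h U n).2]
        exact hs n
  exact Module.Flat.of_linearEquiv (LinearEquiv.ofBijective Λ hbij).symm

end Groth.Agent.FComplFlat
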